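import Groth.Agent.Wiebe.Basic
import Groth.Prelude.Def_LCI2

/-!
Koszul regularity in the sense of `LCI.IsKoszulRegularSeq` gives acyclicity of the elementary model.
-/

set_option autoImplicit false
set_option linter.style.haveILetI false
universe u

open CategoryTheory CategoryTheory.Limits CochainComplex HomologicalComplex

namespace Groth.Agent.Wiebe

variable {R : Type u} [CommRing R]

/-- A decomposition of the total module along the degrees of a cochain complex. -/
structure Split {n : ℕ} (f : Fin n → R) (K : CochainComplex (ModuleCat.{u} R) ℤ) where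
  σ : ∀ i : ℤ, K.X i →ₗ[R] X R n
  ρ : ∀ i : ℤ, X R n →ₗ[R] K.X i
  d_σ : ∀ (i j : ℤ), i + 1 = j → ∀ u, d f (σ i u) = σ j ((K.d i j).hom u)
  d_ρ : ∀ (i j : ℤ), i + 1 = j → ∀ z, (K.d i j).hom (ρ i z) = ρ j (d f z)
  vanish : ∀ i : ℤ, (0 < i ∨ i < -(n : ℤ)) → ∀ z, ρ i z = 0
  total : ∀ z, ∑ k ∈ Finset.range (n + 1), σ (-(k : ℤ)) (ρ (-(k : ℤ)) z) = z
  zero_deg : ∀ z, σ 0 (ρ 0 z) = eps z • bot R n

theorem Split.acyclic {n : ℕ} {f : Fin n → R} {K : CochainComplex (ModuleCat.{u} R) ℤ} (S : Split f K)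
    (hK : ∀ i : ℤ, i ≠ 0 → IsZero (K.homology i)) : Acyclic f := by
  intro z hz
  have hb : ∀ k : ℕ, ∃ (v : X R n) (r : R), S.σ (-(k : ℤ)) (S.ρ (-(k : ℤ)) z) = d f v + r • bot R n := by
    intro k
    rcases k with _ | k
    · exact ⟨0, eps z, by simp [S.zero_deg]⟩
    · set i : ℤ := -((k + 1 : ℕ) : ℤ) with hi
      have hex : (K.sc' (i - 1) i (i + 1)).Exact :=
        (K.exactAt_iff' (i - 1) i (i + 1) (by simp) (by simp)).1
          ((K.exactAt_iff_isZero_homology i).2 (hK i (by omega)))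
      rw [ShortComplex.moduleCat_exact_iff] at hex
      obtain ⟨v, hv⟩ := hex (S.ρ i z) (by
        show (K.d i (i + 1)).hom (S.ρ i z) = 0
        rw [S.d_ρ i (i + 1) rfl, hz, map_zero])
      refine ⟨S.σ (i - 1) v, 0, ?_⟩
      rw [S.d_σ (i - 1) i (by omega), zero_smul, add_zero]
      exact congrArg (S.σ i) hv.symm
  choose v r hvr using hb
  refine ⟨∑ k ∈ Finset.range (n + 1), v k, ∑ k ∈ Finset.range (n + 1), r k, ?_⟩
  conv_lhs => rw [← S.total z]
  simp [hvr, Finset.sum_add_distrib, Finset.sum_smul]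

/-- The splitting for the empty sequence. -/
noncomputable def splitNil (f : Fin 0 → R) : Split f (Koszul.koszul R []) where
  σ i := if h : i = 0 then
      ((LinearMap.pi fun _ => LinearMap.id) : R →ₗ[R] X R 0) ∘ₗ
        (HomologicalComplex.singleObjXIsoOfEq (ComplexShape.up ℤ) 0 (ModuleCat.of R R) i h).hom.hom
    else 0
  ρ i := if h : i = 0 then
      (HomologicalComplex.singleObjXIsoOfEq (ComplexShape.up ℤ) 0 (ModuleCat.of R R) i h).inv.hom ∘ₗ eps
    else 0
  d_σ i j hij u := by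
    have h : (Koszul.koszul R []).d i j = 0 := HomologicalComplex.single_obj_d ..
    simp [d, h]
  d_ρ i j hij z := by
    have h : (Koszul.koszul R []).d i j = 0 := HomologicalComplex.single_obj_d ..
    simp [d, h]
  vanish i hi z := by
    have : i ≠ 0 := by omega
    simp [this]
  total z := by
    simp only [zero_add, Finset.sum_range_one, Nat.cast_zero, neg_zero, dite_true, LinearMap.comp_apply]
    erw [Iso.inv_hom_id_apply]
    ext s
    simp [eps, Subsingleton.elim s Fin.elim0]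
  zero_deg z := by
    simp only [dite_true, LinearMap.comp_apply]
    erw [Iso.inv_hom_id_apply]
    ext s
    simp [eps, bot]

/-- The splitting of a mapping cone. -/
noncomputable def splitCone {n : ℕ} (f : Fin (n + 1) → R) {K : CochainComplex (ModuleCat.{u} R) ℤ}
    (S : Split (Fin.tail f) K) : Split f (mappingCone (f 0 • 𝟙 K)) where
  σ i := mk ∘ₗ ((S.σ i ∘ₗ ((mappingCone.snd (f 0 • 𝟙 K)).v i i (add_zero i)).hom).prod
    (S.σ (i + 1) ∘ₗ ((mappingCone.fst (f 0 • 𝟙 K)).1.v i (i + 1) rfl).hom))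
  ρ i := ((mappingCone.inr (f 0 • 𝟙 K)).f i).hom ∘ₗ S.ρ i ∘ₗ p0 +
    ((mappingCone.inl (f 0 • 𝟙 K)).v (i + 1) i (by omega)).hom ∘ₗ S.ρ (i + 1) ∘ₗ p1
  d_σ i j hij u := by
    subst hij
    apply ext'
    · have e := congrArg (fun g => S.σ (i + 1) (g.hom u)) (mappingCone.d_snd_v (f 0 • 𝟙 K) i (i + 1) rfl)
      simp at e
      simp [S.d_σ i (i + 1) rfl, e, add_comm]
    · have e := congrArg (fun g => S.σ (i + 1 + 1) (g.hom u))
        (mappingCone.d_fst_v (f 0 • 𝟙 K) i (i + 1) (i + 1 + 1) rfl rfl)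
      simp at e
      simp [S.d_σ (i + 1) (i + 1 + 1) rfl, e]
  d_ρ i j hij z := by
    subst hij
    have e0 := congrArg (fun g => g.hom (S.ρ i (p0 z))) (mappingCone.inr_f_d (f 0 • 𝟙 K) i (i + 1))
    have e1 := congrArg (fun g => g.hom (S.ρ (i + 1) (p1 z)))
      (mappingCone.inl_v_d (f 0 • 𝟙 K) (i + 1) i (i + 1 + 1) (by omega) (by omega))
    simp only [ModuleCat.hom_comp, LinearMap.comp_apply, ModuleCat.hom_id, LinearMap.id_apply, ModuleCat.hom_zero, LinearMap.zero_apply, ModuleCat.hom_sub, LinearMap.sub_apply, HomologicalComplex.smul_f_apply, HomologicalComplex.id_f, ModuleCat.hom_smul, LinearMap.smul_apply, map_smul] at e0 e1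
    simp [e0, e1, S.d_ρ i (i + 1) rfl, S.d_ρ (i + 1) (i + 1 + 1) rfl]
    abel
  vanish i hi z := by
    simp [S.vanish i (by push_cast at hi; omega), S.vanish (i + 1) (by push_cast at hi; omega)]
  total z := by
    apply ext'
    · have hs : ∀ (i : ℤ) (a b : _), ((mappingCone.snd (f 0 • 𝟙 K)).v i i (add_zero i)).hom
          (((mappingCone.inr (f 0 • 𝟙 K)).f i).hom a +
          ((mappingCone.inl (f 0 • 𝟙 K)).v (i + 1) i (by omega)).hom b) = a := by
        intro i a b
        have e0 := congrArg (fun g => g.hom a) (mappingCone.inr_f_snd_v (f 0 • 𝟙 K) i)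
        have e1 := congrArg (fun g => g.hom b) (mappingCone.inl_v_snd_v (f 0 • 𝟙 K) (i + 1) i (by omega))
        simp only [ModuleCat.hom_comp, LinearMap.comp_apply, ModuleCat.hom_id, LinearMap.id_apply, ModuleCat.hom_zero, LinearMap.zero_apply, ModuleCat.hom_sub, LinearMap.sub_apply, HomologicalComplex.smul_f_apply, HomologicalComplex.id_f, ModuleCat.hom_smul, LinearMap.smul_apply, map_smul] at e0 e1
        simp [e0, e1]
      rw [map_sum, Finset.sum_range_succ]
      simp only [LinearMap.comp_apply, LinearMap.prod_apply, Function.prod, p0_mk, LinearMap.add_apply, hs]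
      rw [S.total, S.vanish _ (by push_cast; omega), map_zero, add_zero]
    · have hs : ∀ (i : ℤ) (a b : _), ((mappingCone.fst (f 0 • 𝟙 K)).1.v i (i + 1) rfl).hom
          (((mappingCone.inr (f 0 • 𝟙 K)).f i).hom a +
          ((mappingCone.inl (f 0 • 𝟙 K)).v (i + 1) i (by omega)).hom b) = b := by
        intro i a b
        have e0 := congrArg (fun g => g.hom a) (mappingCone.inr_f_fst_v (f 0 • 𝟙 K) i (i + 1) rfl)
        have e1 := congrArg (fun g => g.hom b) (mappingCone.inl_v_fst_v (f 0 • 𝟙 K) (i + 1) i rfl)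
        simp only [ModuleCat.hom_comp, LinearMap.comp_apply, ModuleCat.hom_id, LinearMap.id_apply, ModuleCat.hom_zero, LinearMap.zero_apply, ModuleCat.hom_sub, LinearMap.sub_apply, HomologicalComplex.smul_f_apply, HomologicalComplex.id_f, ModuleCat.hom_smul, LinearMap.smul_apply, map_smul] at e0 e1
        simp [e0, e1]
      rw [map_sum, Finset.sum_range_succ']
      simp only [LinearMap.comp_apply, LinearMap.prod_apply, Function.prod, p1_mk, LinearMap.add_apply, hs]
      conv_rhs => rw [← S.total (p1 z)]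
      rw [S.vanish (-((0 : ℕ) : ℤ) + 1) (Or.inl (by simp)), map_zero, add_zero]
      refine Finset.sum_congr rfl fun k _ => ?_
      have hk : (-((k + 1 : ℕ) : ℤ) + 1) = -(k : ℤ) := by push_cast; ring
      rw [hk]
  zero_deg z := by
    have e0 := congrArg (fun g => g.hom (S.ρ 0 (p0 z))) (mappingCone.inr_f_snd_v (f 0 • 𝟙 K) 0)
    have e1 := congrArg (fun g => g.hom (S.ρ 0 (p0 z))) (mappingCone.inr_f_fst_v (f 0 • 𝟙 K) 0 1 (zero_add 1))
    simp only [ModuleCat.hom_comp, LinearMap.comp_apply, ModuleCat.hom_id, LinearMap.id_apply, ModuleCat.hom_zero, LinearMap.zero_apply, ModuleCat.hom_sub, LinearMap.sub_apply, HomologicalComplex.smul_f_apply, HomologicalComplex.id_f, ModuleCat.hom_smul, LinearMap.smul_apply, map_smul] at e0 e1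
    apply ext' <;> simp [S.vanish 1 (Or.inl one_pos), bot, e0, e1, S.zero_deg, eps]

theorem nonempty_split : ∀ {n : ℕ} (f : Fin n → R), Nonempty (Split f (Koszul.koszul R (List.ofFn f))) := by
  intro n
  induction n with
  | zero => intro f; rw [List.ofFn_zero]; exact ⟨splitNil f⟩
  | succ n ih =>
    intro f
    obtain ⟨S⟩ := ih (Fin.tail f)
    rw [List.ofFn_succ]
    exact ⟨splitCone f S⟩

/-- Koszul regular sequences are acyclic. -/
theorem acyclic_of_isKoszulRegularSeq {n : ℕ} {f : Fin n → R}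
    (hf : LCI.IsKoszulRegularSeq R (List.ofFn f)) : Acyclic f :=
  (nonempty_split f).some.acyclic hf

end Groth.Agent.Wiebe
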