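import Mathlib.LinearAlgebra.ExteriorAlgebra.Basic
import Mathlib.LinearAlgebra.Determinant
import Mathlib.LinearAlgebra.StdBasis
import Mathlib.RingTheory.Ideal.Span

/-!
An elementary (ungraded) model of the Koszul complex and Wiebe's lemma: if the Koszul complex of `f`
is acyclic and `f = c g` then `(f) : (g) = (f) + (det c)`.
-/

set_option autoImplicit false
set_option linter.style.haveILetI false
universe u

namespace Groth.Agent.Wiebe

variable {R : Type u} [CommRing R]

/-- The total module of the Koszul complex on `n` elements. -/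
abbrev X (R : Type u) (n : ℕ) : Type u := (Fin n → Bool) → R

/-- The component not containing the first generator. -/
def p0 {n : ℕ} : X R (n + 1) →ₗ[R] X R n := LinearMap.funLeft R R (fun s => (Fin.cons false s : Fin (n + 1) → Bool))

/-- The component containing the first generator. -/
def p1 {n : ℕ} : X R (n + 1) →ₗ[R] X R n := LinearMap.funLeft R R (fun s => (Fin.cons true s : Fin (n + 1) → Bool))

/-- Gluing two components. -/
def mk {n : ℕ} : (X R n × X R n) →ₗ[R] X R (n + 1) where
  toFun q s := bif s 0 then q.2 (Fin.tail s) else q.1 (Fin.tail s)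
  map_add' a b := by ext s; cases h : s 0 <;> simp [h]
  map_smul' r a := by ext s; cases h : s 0 <;> simp [h]

@[simp] theorem p0_mk {n : ℕ} (q : X R n × X R n) : p0 (mk q) = q.1 := by
  ext s; simp [p0, mk, LinearMap.funLeft_apply]

@[simp] theorem p1_mk {n : ℕ} (q : X R n × X R n) : p1 (mk q) = q.2 := by
  ext s; simp [p1, mk, LinearMap.funLeft_apply]

theorem mk_p {n : ℕ} (z : X R (n + 1)) : mk (p0 z, p1 z) = z := by
  ext s
  cases h : s 0 <;>
    simp only [p0, p1, mk, LinearMap.coe_mk, AddHom.coe_mk, h, cond_false, cond_true, LinearMap.funLeft_apply]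
  · rw [← h, Fin.cons_self_tail]
  · rw [← h, Fin.cons_self_tail]

theorem ext' {n : ℕ} {z z' : X R (n + 1)} (h0 : p0 z = p0 z') (h1 : p1 z = p1 z') : z = z' := by
  rw [← mk_p z, ← mk_p z', h0, h1]

/-- The Koszul differential. -/
def d : ∀ {n : ℕ}, (Fin n → R) → (X R n →ₗ[R] X R n)
  | 0, _ => 0
  | _ + 1, f => mk ∘ₗ (((d (Fin.tail f)) ∘ₗ p0 + f 0 • p1).prod (-((d (Fin.tail f)) ∘ₗ p1)))

@[simp] theorem p0_d {n : ℕ} (f : Fin (n + 1) → R) (z : X R (n + 1)) :
    p0 (d f z) = d (Fin.tail f) (p0 z) + f 0 • p1 z := by simp [d]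

@[simp] theorem p1_d {n : ℕ} (f : Fin (n + 1) → R) (z : X R (n + 1)) :
    p1 (d f z) = -d (Fin.tail f) (p1 z) := by simp [d]

/-- Exterior multiplication by a degree one element. -/
def w : ∀ {n : ℕ}, (Fin n → R) → (X R n →ₗ[R] X R n)
  | 0, _ => 0
  | _ + 1, v => mk ∘ₗ (((w (Fin.tail v)) ∘ₗ p0).prod (v 0 • p0 - (w (Fin.tail v)) ∘ₗ p1))

@[simp] theorem p0_w {n : ℕ} (v : Fin (n + 1) → R) (z : X R (n + 1)) :
    p0 (w v z) = w (Fin.tail v) (p0 z) := by simp [w]

@[simp] theorem p1_w {n : ℕ} (v : Fin (n + 1) → R) (z : X R (n + 1)) :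
    p1 (w v z) = v 0 • p0 z - w (Fin.tail v) (p1 z) := by simp [w]

theorem w_add : ∀ {n : ℕ} (u v : Fin n → R) (z : X R n), w (u + v) z = w u z + w v z := by
  intro n
  induction n with
  | zero => intro u v z; simp [w]
  | succ n ih =>
    intro u v z
    have ht : Fin.tail (u + v) = Fin.tail u + Fin.tail v := rfl
    apply ext'
    · simp [ht, ih]
    · simp [ht, ih, add_smul]; abel

theorem w_smul : ∀ {n : ℕ} (r : R) (v : Fin n → R) (z : X R n), w (r • v) z = r • w v z := by
  intro n
  induction n with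
  | zero => intro r v z; simp [w]
  | succ n ih =>
    intro r v z
    have ht : Fin.tail (r • v) = r • Fin.tail v := rfl
    apply ext'
    · simp [ht, ih]
    · simp [ht, ih, mul_smul, smul_sub]

/-- `w` as a linear map. -/
def W (R : Type u) [CommRing R] (n : ℕ) : (Fin n → R) →ₗ[R] Module.End R (X R n) where
  toFun := w
  map_add' u v := LinearMap.ext (w_add u v)
  map_smul' r v := LinearMap.ext (w_smul r v)

theorem w_zero {n : ℕ} (z : X R n) : w (0 : Fin n → R) z = 0 :=
  LinearMap.congr_fun (map_zero (W R n)) z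

theorem w_w : ∀ {n : ℕ} (v : Fin n → R) (z : X R n), w v (w v z) = 0 := by
  intro n
  induction n with
  | zero => intro v z; simp [w]
  | succ n ih =>
    intro v z
    apply ext'
    · simp [ih]
    · simp [ih]

theorem d_w : ∀ {n : ℕ} (f v : Fin n → R) (z : X R n),
    d f (w v z) + w v (d f z) = (∑ j, v j * f j) • z := by
  intro n
  induction n with
  | zero => intro f v z; simp [d, w]
  | succ n ih =>
    intro f v z
    have hs : (∑ j, v j * f j) = v 0 * f 0 + ∑ j, Fin.tail v j * Fin.tail f j := by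
      rw [Fin.sum_univ_succ]; rfl
    have h0 := ih (Fin.tail f) (Fin.tail v) (p0 z)
    have h1 := ih (Fin.tail f) (Fin.tail v) (p1 z)
    apply ext'
    · simp only [map_add, map_smul, p0_d, p1_w, p0_w, hs, add_smul, smul_sub, mul_smul]
      rw [← h0, smul_comm (f 0) (v 0)]
      abel
    · simp only [map_add, map_sub, map_neg, map_smul, p1_d, p1_w, p0_d, hs, add_smul, smul_add, mul_smul]
      rw [← h1]
      abel

/-- The sign automorphism. -/
def sgn : ∀ {n : ℕ}, X R n →ₗ[R] X R n
  | 0 => LinearMap.id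
  | _ + 1 => mk ∘ₗ ((sgn ∘ₗ p0).prod (-(sgn ∘ₗ p1)))

@[simp] theorem p0_sgn {n : ℕ} (z : X R (n + 1)) : p0 (sgn z) = sgn (p0 z) := by simp [sgn]
@[simp] theorem p1_sgn {n : ℕ} (z : X R (n + 1)) : p1 (sgn z) = -sgn (p1 z) := by simp [sgn]

theorem sgn_sgn : ∀ {n : ℕ} (z : X R n), sgn (sgn z) = z := by
  intro n
  induction n with
  | zero => intro z; simp [sgn]
  | succ n ih => intro z; apply ext' <;> simp [ih]

theorem sgn_d : ∀ {n : ℕ} (f : Fin n → R) (z : X R n), sgn (d f z) = -d f (sgn z) := by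
  intro n
  induction n with
  | zero => intro f z; simp [d]
  | succ n ih => intro f z; apply ext' <;> simp [ih] <;> abel

/-- The degree zero coefficient. -/
def eps : ∀ {n : ℕ}, X R n →ₗ[R] R
  | 0 => LinearMap.proj Fin.elim0
  | _ + 1 => eps ∘ₗ p0

/-- The top degree coefficient. -/
def pi : ∀ {n : ℕ}, X R n →ₗ[R] R
  | 0 => LinearMap.proj Fin.elim0
  | _ + 1 => pi ∘ₗ p1

/-- The generator in degree zero. -/
def bot (R : Type u) [CommRing R] : ∀ n : ℕ, X R n
  | 0 => fun _ => 1
  | n + 1 => mk (bot R n, 0)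

/-- The generator in top degree. -/
def top (R : Type u) [CommRing R] : ∀ n : ℕ, X R n
  | 0 => fun _ => 1
  | n + 1 => mk (0, top R n)

theorem eps_bot : ∀ n : ℕ, eps (bot R n) = 1
  | 0 => rfl
  | n + 1 => by simpa [eps, bot] using eps_bot n

theorem pi_top : ∀ n : ℕ, pi (top R n) = 1
  | 0 => rfl
  | n + 1 => by simpa [pi, top] using pi_top n

theorem d_bot : ∀ {n : ℕ} (f : Fin n → R), d f (bot R n) = 0 := by
  intro n
  induction n with
  | zero => intro f; simp [d]
  | succ n ih => intro f; apply ext' <;> simp [bot, ih]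

theorem d_d : ∀ {n : ℕ} (f : Fin n → R) (z : X R n), d f (d f z) = 0 := by
  intro n
  induction n with
  | zero => intro f z; simp [d]
  | succ n ih => intro f z; apply ext' <;> simp [ih]

theorem eps_w : ∀ {n : ℕ} (v : Fin n → R) (z : X R n), eps (w v z) = 0 := by
  intro n
  induction n with
  | zero => intro v z; simp [w]
  | succ n ih => intro v z; simp [eps, ih]

theorem pi_d : ∀ {n : ℕ} (f : Fin n → R) (z : X R n), pi (d f z) = 0 := by
  intro n
  induction n with
  | zero => intro f z; simp [d]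
  | succ n ih => intro f z; simp [pi, ih]

theorem d_mem : ∀ {n : ℕ} (f : Fin n → R) (z : X R n) (s : Fin n → Bool), d f z s ∈ Ideal.span (Set.range f) := by
  intro n
  induction n with
  | zero => intro f z s; simp [d]
  | succ n ih =>
    intro f z s
    have hle : Ideal.span (Set.range (Fin.tail f)) ≤ Ideal.span (Set.range f) :=
      Ideal.span_mono (by rintro _ ⟨i, rfl⟩; exact ⟨i.succ, rfl⟩)
    rw [← mk_p (d f z), p0_d, p1_d]
    cases h : s 0 <;> simp only [mk, LinearMap.coe_mk, AddHom.coe_mk, h, cond_false, cond_true, Pi.add_apply,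
      Pi.neg_apply, Pi.smul_apply, smul_eq_mul]
    · exact add_mem (hle (ih _ _ _)) (Ideal.mul_mem_right _ _ (Ideal.subset_span ⟨0, rfl⟩))
    · exact neg_mem (hle (ih _ _ _))

theorem map_mem {n m : ℕ} (L : X R n →ₗ[R] X R m) (I : Ideal R) (z : X R n) (h : ∀ s, z s ∈ I)
    (t : Fin m → Bool) : L z t ∈ I := by
  classical
  rw [LinearMap.pi_apply_eq_sum_univ L z, Finset.sum_apply]
  exact Submodule.sum_mem _ fun s _ => Ideal.mul_mem_right _ _ (h s)

theorem eps_mem : ∀ {n : ℕ} (I : Ideal R) (z : X R n), (∀ s, z s ∈ I) → eps z ∈ I := by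
  intro n
  induction n with
  | zero => intro I z h; exact h _
  | succ n ih => intro I z h; exact ih I _ fun s => h _

theorem pi_mem : ∀ {n : ℕ} (I : Ideal R) (z : X R n), (∀ s, z s ∈ I) → pi z ∈ I := by
  intro n
  induction n with
  | zero => intro I z h; exact h _
  | succ n ih => intro I z h; exact ih I _ fun s => h _

/-- The Koszul complex of `f` is acyclic outside degree zero. -/
def Acyclic {n : ℕ} (f : Fin n → R) : Prop :=
  ∀ z, d f z = 0 → ∃ (v : X R n) (r : R), z = d f v + r • bot R n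

theorem Acyclic.exists_primitive {n : ℕ} {f : Fin n → R} (hf : Acyclic f) {z : X R n} (hz : d f z = 0)
    (he : eps z ∈ Ideal.span (Set.range f)) : ∃ v, eps v = 0 ∧ d f v = z := by
  obtain ⟨v, r, rfl⟩ := hf z hz
  have hr : r ∈ Ideal.span (Set.range f) := by
    simp only [map_add, map_smul, eps_bot, smul_eq_mul, mul_one] at he
    exact (Submodule.add_mem_iff_right _ (eps_mem _ _ (d_mem f v))).1 he
  obtain ⟨c, hc⟩ := Ideal.mem_span_range_iff_exists_fun.1 hr
  refine ⟨v + w c (bot R n) - eps v • bot R n, ?_, ?_⟩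
  · simp [eps_w, eps_bot]
  · have := d_w f c (bot R n)
    rw [d_bot, map_zero, add_zero] at this
    simp [d_bot, this, hc]

/-- Null homotopy into an acyclic Koszul complex. -/
theorem exists_homotopy {n : ℕ} {f : Fin n → R} (hf : Acyclic f) :
    ∀ {m : ℕ} (g : Fin m → R) (θ : X R m →ₗ[R] X R n), (∀ z, d f (θ z) = θ (d g z)) →
      (∀ z, eps (θ z) ∈ Ideal.span (Set.range f)) →
      ∃ η : X R m →ₗ[R] X R n, (∀ z, d f (η z) + η (d g z) = θ z) ∧ ∀ z, eps (η z) = 0 := by
  intro m
  induction m with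
  | zero =>
    intro g θ hc he
    obtain ⟨v, hv0, hv⟩ := hf.exists_primitive (z := θ (bot R 0))
      (by rw [hc]; simp [d]) (he _)
    refine ⟨(eps : X R 0 →ₗ[R] R).smulRight v, fun z => ?_, fun z => ?_⟩
    · have hz : z = eps z • bot R 0 := by
        ext s; simp [eps, bot, Subsingleton.elim s Fin.elim0]
      conv_rhs => rw [hz]
      simp [d, hv]
    · simp [hv0]
  | succ m ih =>
    intro g θ hc he
    let in0 : X R m →ₗ[R] X R (m + 1) := mk ∘ₗ LinearMap.inl R _ _
    let in1 : X R m →ₗ[R] X R (m + 1) := mk ∘ₗ LinearMap.inr R _ _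
    have hsplit : ∀ z, z = in0 (p0 z) + in1 (p1 z) := fun z => by apply ext' <;> simp [in0, in1]
    have hd0 : ∀ x, d g (in0 x) = in0 (d (Fin.tail g) x) := fun x => by apply ext' <;> simp [in0]
    have hd1 : ∀ y, d g (in1 y) = g 0 • in0 y - in1 (d (Fin.tail g) y) := fun y => by
      apply ext' <;> simp [in0, in1]
    obtain ⟨η₁, h₁, h₁'⟩ := ih (Fin.tail g) (θ ∘ₗ in0)
      (fun x => by simp [hc, hd0]) (fun x => he _)
    let θ₂ : X R m →ₗ[R] X R n := θ ∘ₗ in1 - g 0 • η₁
    have hθ₂ : ∀ y, d f (θ₂ y) = -θ₂ (d (Fin.tail g) y) := by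
      intro y
      have e1 := h₁ y
      simp only [θ₂, LinearMap.sub_apply, LinearMap.comp_apply, LinearMap.smul_apply, map_sub, map_smul,
        hc, hd1] at e1 ⊢
      rw [← e1, smul_add]
      abel
    obtain ⟨η₃, h₃, h₃'⟩ := ih (Fin.tail g) (θ₂ ∘ₗ sgn)
      (fun y => by simp [hθ₂, sgn_d])
      (fun y => by simpa [θ₂, h₁'] using he (in1 (sgn y)))
    let η₂ := η₃ ∘ₗ sgn
    refine ⟨η₁ ∘ₗ p0 + η₂ ∘ₗ p1, fun z => ?_, fun z => by simp [η₂, h₁', h₃']⟩
    have e1 := h₁ (p0 z)
    have e2 := h₃ (sgn (p1 z))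
    simp only [LinearMap.comp_apply, sgn_sgn, θ₂, LinearMap.sub_apply, LinearMap.smul_apply] at e1 e2
    conv_rhs => rw [hsplit z, map_add, ← e1]
    simp only [η₂, LinearMap.add_apply, LinearMap.comp_apply, map_add, p0_d, p1_d, map_neg, map_smul, sgn_d]
    rw [eq_add_of_sub_eq e2.symm]
    abel

/-- Comparison maps into an acyclic Koszul complex lifting multiplication by `a`. -/
theorem exists_chainMap {n : ℕ} {f : Fin n → R} (hf : Acyclic f) :
    ∀ {m : ℕ} (g : Fin m → R) (a : R), (∀ j, a * g j ∈ Ideal.span (Set.range f)) →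
      ∃ φ : X R m →ₗ[R] X R n, (∀ z, d f (φ z) = φ (d g z)) ∧ ∀ z, eps (φ z) = a * eps z := by
  intro m
  induction m with
  | zero =>
    intro g a ha
    exact ⟨(eps : X R 0 →ₗ[R] R).smulRight (a • bot R n), fun z => by simp [d, d_bot],
      fun z => by simp [eps_bot, mul_comm]⟩
  | succ m ih =>
    intro g a ha
    obtain ⟨φ, h, h'⟩ := ih (Fin.tail g) a fun j => ha j.succ
    obtain ⟨η, hη, hη'⟩ := exists_homotopy hf (Fin.tail g) (g 0 • φ)
      (fun z => by simp [h]) (fun z => by
        simp only [LinearMap.smul_apply, map_smul, h', smul_eq_mul]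
        have := Ideal.mul_mem_right (eps z) _ (ha 0)
        convert this using 1; ring)
    refine ⟨φ ∘ₗ p0 + η ∘ₗ p1, fun z => ?_, fun z => by simp [h', hη', eps]⟩
    have e := hη (p1 z)
    simp only [LinearMap.smul_apply] at e
    simp [h, eq_sub_of_add_eq e]
    abel

/-- The map of Koszul complexes given by a matrix. -/
def psi {n : ℕ} : ∀ {m : ℕ}, (Fin m → Fin n → R) → (X R m →ₗ[R] X R n)
  | 0, _ => (eps : X R 0 →ₗ[R] R).smulRight (bot R n)
  | _ + 1, c => psi (Fin.tail c) ∘ₗ p0 + w (c 0) ∘ₗ psi (Fin.tail c) ∘ₗ p1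

theorem d_psi {n : ℕ} (g : Fin n → R) : ∀ {m : ℕ} (c : Fin m → Fin n → R) (z : X R m),
    d g (psi c z) = psi c (d (fun i => ∑ j, c i j * g j) z) := by
  intro m
  induction m with
  | zero => intro c z; simp [psi, d, d_bot]
  | succ m ih =>
    intro c z
    have e := d_w g (c 0) (psi (Fin.tail c) (p1 z))
    have ht : Fin.tail (fun i => ∑ j, c i j * g j) = fun i => ∑ j, Fin.tail c i j * g j := rfl
    simp only [psi, LinearMap.add_apply, LinearMap.comp_apply, map_add, map_neg, p0_d, p1_d, map_smul, ht, ← ih]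
    rw [← e]
    abel

theorem eps_psi {n : ℕ} : ∀ {m : ℕ} (c : Fin m → Fin n → R) (z : X R m), eps (psi c z) = eps z := by
  intro m
  induction m with
  | zero => intro c z; simp [psi, eps_bot]
  | succ m ih => intro c z; simp [psi, ih, eps_w]; rfl

theorem psi_cons_zero {n : ℕ} : ∀ {m : ℕ} (v : Fin m → Fin n → R) (z : X R m),
    psi (fun i => Fin.cons 0 (v i) : Fin m → Fin (n + 1) → R) z = mk (psi v z, 0) := by
  intro m
  induction m with
  | zero => intro v z; apply ext' <;> simp [psi, bot]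
  | succ m ih =>
    intro v z
    have ht : Fin.tail (fun i => Fin.cons 0 (v i) : Fin (m + 1) → Fin (n + 1) → R) =
      fun i => Fin.cons 0 (Fin.tail v i) := rfl
    simp only [psi, LinearMap.add_apply, LinearMap.comp_apply, ht, ih]
    apply ext' <;> simp

theorem psi_top_one : ∀ n : ℕ, psi (fun i => Pi.single i 1 : Fin n → Fin n → R) (top R n) = top R n
  | 0 => by ext s; simp [psi, eps, top, bot]
  | n + 1 => by
    have ht : Fin.tail (fun i => Pi.single i 1 : Fin (n + 1) → Fin (n + 1) → R) =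
        fun i => (Fin.cons 0 (Pi.single i 1 : Fin n → R) : Fin (n + 1) → R) := by
      funext i j
      refine Fin.cases ?_ (fun k => ?_) j
      · simp [Fin.tail]
      · simp [Fin.tail, Pi.single_apply]
    have h0 : Fin.tail (α := fun _ => R) (Pi.single (0 : Fin (n + 1)) (1 : R)) = (0 : Fin n → R) := by
      funext i; simp [Fin.tail]
    simp only [psi, LinearMap.add_apply, LinearMap.comp_apply, top, p0_mk, p1_mk, map_zero, zero_add, ht,
      psi_cons_zero, psi_top_one n]
    apply ext' <;> simp [h0, w_zero]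

theorem psi_top_eq_lift {n : ℕ} : ∀ {m : ℕ} (c : Fin m → Fin n → R),
    psi c (top R m) = ExteriorAlgebra.lift R ⟨W R n, fun v => LinearMap.ext (w_w v)⟩
      (ExteriorAlgebra.ιMulti R m c) (bot R n) := by
  intro m
  induction m with
  | zero => intro c; simp [psi, top, eps, ExteriorAlgebra.ιMulti_zero_apply]
  | succ m ih =>
    intro c
    rw [ExteriorAlgebra.ιMulti_succ_apply, map_mul, Module.End.mul_apply, ExteriorAlgebra.lift_ι_apply]
    simp [psi, top]
    exact congrArg (w (c 0)) (ih (Fin.tail c))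

/-- The top component of the map given by a square matrix is its determinant. -/
theorem psi_top {n : ℕ} (c : Matrix (Fin n) (Fin n) R) :
    psi (fun i j => c i j) (top R n) = c.det • top R n := by
  classical
  let A : (Fin n → R) [⋀^Fin n]→ₗ[R] X R n :=
    ((LinearMap.applyₗ (bot R n)) ∘ₗ
      (ExteriorAlgebra.lift R ⟨W R n, fun v => LinearMap.ext (w_w v)⟩).toLinearMap).compAlternatingMap
      (ExteriorAlgebra.ιMulti R n)
  have hA : ∀ v, psi v (top R n) = A v := fun v => psi_top_eq_lift v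
  have h : A = (LinearMap.toSpanSingleton R _ (top R n)).compAlternatingMap (Pi.basisFun R (Fin n)).det := by
    refine Module.Basis.ext_alternating (Pi.basisFun R (Fin n)) fun v hv => ?_
    let σ : Equiv.Perm (Fin n) := Equiv.ofBijective v (Finite.injective_iff_bijective.1 hv)
    have hb : (fun i => (Pi.basisFun R (Fin n)) (v i)) = (Pi.basisFun R (Fin n)) ∘ σ := rfl
    rw [hb, AlternatingMap.map_perm, AlternatingMap.map_perm]
    congr 1
    rw [← hA, LinearMap.compAlternatingMap_apply, Module.Basis.det_self, LinearMap.toSpanSingleton_apply, one_smul]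
    convert psi_top_one n using 2
    congr 1
    funext i j
    simp
  rw [hA, h, LinearMap.compAlternatingMap_apply, LinearMap.toSpanSingleton_apply]
  congr 1
  rw [Pi.basisFun_det]
  rfl

/-- Wiebe's lemma. -/
theorem mem_of_mul_mem {n : ℕ} {f g : Fin n → R} (hf : Acyclic f) (c : Matrix (Fin n) (Fin n) R)
    (hc : ∀ i, f i = ∑ j, c i j * g j) {a : R} (ha : ∀ j, a * g j ∈ Ideal.span (Set.range f)) :
    a ∈ Ideal.span (Set.range f) ⊔ Ideal.span {c.det} := by
  obtain ⟨φ, hφ, hφ'⟩ := exists_chainMap hf g a ha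
  have hfe : (fun i => ∑ j, c i j * g j) = f := funext fun i => (hc i).symm
  have hψ : ∀ z, d g (psi (fun i j => c i j) z) = psi (fun i j => c i j) (d f z) := fun z => by
    rw [d_psi, hfe]
  obtain ⟨η, hη, -⟩ := exists_homotopy hf f (φ ∘ₗ psi (fun i j => c i j) - a • LinearMap.id)
    (fun z => by simp [hφ, hψ])
    (fun z => by simp [hφ', eps_psi])
  have key := congrArg pi (hη (top R n))
  simp [pi_d, psi_top, pi_top] at key
  have hmem : pi (η (d f (top R n))) ∈ Ideal.span (Set.range f) :=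
    pi_mem _ _ (map_mem η _ _ (d_mem f _))
  rw [key] at hmem
  have e : a = -(c.det * pi (φ (top R n)) - a) + c.det * pi (φ (top R n)) := by ring
  rw [e]
  exact add_mem (Ideal.mem_sup_left (neg_mem hmem))
    (Ideal.mem_sup_right (Ideal.mul_mem_right _ _ (Ideal.mem_span_singleton_self _)))

/-- The easy inclusion: the determinant is in the colon ideal. -/
theorem det_mul_mem {n : ℕ} {f g : Fin n → R} (c : Matrix (Fin n) (Fin n) R)
    (hc : ∀ i, f i = ∑ j, c i j * g j) (j : Fin n) : c.det * g j ∈ Ideal.span (Set.range f) := by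
  have h : c.mulVec g = f := funext fun i => (hc i).symm
  have h2 : c.det • g = c.adjugate.mulVec f := by
    rw [← h, Matrix.mulVec_mulVec, Matrix.adjugate_mul, Matrix.smul_mulVec, Matrix.one_mulVec]
  have := congrFun h2 j
  rw [Pi.smul_apply, smul_eq_mul] at this
  rw [this]
  exact Submodule.sum_mem _ (t := Finset.univ) (f := fun i => c.adjugate j i * f i) fun i _ => Ideal.mul_mem_left (Ideal.span (Set.range f)) _ (Ideal.subset_span ⟨i, rfl⟩)

end Groth.Agent.Wiebe
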